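import Cfsg.Agent.Lib.J4Type.Three.Mats
import Cfsg.Agent.Lib.J4Type.CoreP.Basic

/-!
The subgroups of order twenty-seven of the centraliser of the involution.
-/

set_option autoImplicit false
set_option linter.unusedSectionVars false

namespace CfsgLib.J4Type.Three

open Cfsg Subgroup CfsgLib.J4Type.CoreP

variable {G : Type*} [Group G] [Finite G] {z : G} {P : Subgroup G}
variable (B : Base z P) (F : Frame z P)

theorem mats27_id {m : List ℕ} (h : m ∈ mats27) : mm idM m = m ∧ mm m (mm m m) = idM := by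
  have h1 := List.all_eq_true.1 mats27_cube _ h
  simp only [Bool.and_eq_true] at h1
  exact ⟨eqM_sound h1.2, eqM_sound h1.1⟩

/-- The elements of the centraliser with matrix among the twenty-seven. -/
def pre27 : Submonoid G where
  carrier := {h | h ∈ Cen z ∧ F.mat h ∈ mats27}
  one_mem' := by
    refine ⟨one_mem _, ?_⟩
    rw [(F.mat_eq_id 1 (one_mem _)).2 (one_mem _)]
    obtain ⟨b, hb, e⟩ := List.any_eq_true.1 mats27_one
    exact eqM_sound e ▸ hb
  mul_mem' := by
    rintro a b ⟨ha, hma⟩ ⟨hb, hmb⟩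
    refine ⟨mul_mem ha hb, ?_⟩
    rw [F.mat_mul a ha b hb]
    obtain ⟨c, hc, e⟩ := List.any_eq_true.1 (List.all_eq_true.1
      (List.all_eq_true.1 mats27_closed _ hma) _ hmb)
    exact eqM_sound e ▸ hc

/-- The same as a subgroup. -/
def sub27 : Subgroup G where
  toSubmonoid := pre27 F
  inv_mem' := by
    intro x hx
    have : x⁻¹ = x ^ (orderOf x - 1) := by
      refine inv_eq_of_mul_eq_one_right ?_
      rw [← pow_succ', Nat.sub_add_cancel (orderOf_pos x), pow_orderOf_eq_one]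
    rw [this]
    exact Submonoid.pow_mem _ hx _

theorem mem_sub27 {h : G} : h ∈ sub27 F ↔ h ∈ Cen z ∧ F.mat h ∈ mats27 := Iff.rfl

include B in
theorem card_sub27 : Nat.card (sub27 F) = 27 * 2 ^ 13 := by
  have hl : ∀ m : {m // m ∈ mats27}, ∃ h ∈ Cen z, F.mat h = m.1 := fun m => by
    obtain ⟨h, hh, e⟩ := F.mat_surj _ (mem_mats27_inL m.2)
    exact ⟨h, hh.1, e⟩
  choose l hlc hlm using hl
  have hquot : ∀ a ∈ Cen z, ∀ b ∈ Cen z, F.mat a = F.mat b → b⁻¹ * a ∈ Rad z := fun a ha b hb e => by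
    refine (F.mat_eq_id _ (mul_mem (inv_mem hb) ha)).1 ?_
    rw [F.mat_mul _ (inv_mem hb) _ ha, e, ← F.mat_mul _ (inv_mem hb) _ hb, inv_mul_cancel,
      (F.mat_eq_id 1 (one_mem _)).2 (one_mem _)]
  let f : {m // m ∈ mats27} × ↥(Rad z) → ↥(sub27 F) := fun q =>
    ⟨q.2 * l q.1, mul_mem (B.rad_le q.2.2) (hlc q.1), by
      rw [F.mat_mul _ (B.rad_le q.2.2) _ (hlc q.1), (F.mat_eq_id _ (B.rad_le q.2.2)).2 q.2.2, hlm,
        (mats27_id q.1.2).1]
      exact q.1.2⟩
  have hmat : ∀ q, F.mat (f q) = q.1.1 := fun q => by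
    show F.mat ((q.2 : G) * l q.1) = q.1.1
    rw [F.mat_mul _ (B.rad_le q.2.2) _ (hlc q.1), (F.mat_eq_id _ (B.rad_le q.2.2)).2 q.2.2, hlm,
      (mats27_id q.1.2).1]
  have hb : Function.Bijective f := by
    constructor
    · rintro ⟨m, e⟩ ⟨n, e'⟩ h
      have hm : m = n := Subtype.ext (by have := hmat (m, e); rw [h, hmat] at this; exact this.symm)
      subst hm
      exact Prod.ext rfl (Subtype.ext (mul_right_cancel (congrArg Subtype.val h)))
    · rintro ⟨x, hxc, hxm⟩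
      have h1 := hquot x hxc _ (hlc ⟨_, hxm⟩) (hlm ⟨_, hxm⟩).symm
      have h2 : x * (l ⟨_, hxm⟩)⁻¹ ∈ Rad z := by
        have := B.rad_conj _ (hlc ⟨_, hxm⟩) _ h1
        rwa [show l ⟨_, hxm⟩ * ((l ⟨_, hxm⟩)⁻¹ * x) * (l ⟨_, hxm⟩)⁻¹ = x * (l ⟨_, hxm⟩)⁻¹ by group]
          at this
      exact ⟨(⟨_, hxm⟩, ⟨_, h2⟩), Subtype.ext (inv_mul_cancel_right _ _)⟩
  rw [← Nat.card_congr (Equiv.ofBijective f hb), Nat.card_prod, B.card_rad]
  congr 1
  have := Fintype.ofFinite {m // m ∈ mats27}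
  rw [Nat.card_eq_fintype_card, Fintype.card_of_subtype mats27.toFinset (by simp),
    List.toFinset_card_of_nodup mats27_nodup.1, mats27_nodup.2]

include B F in
theorem exists_ex : ∃ Q ≤ Cen z, Nat.card Q = 27 ∧ (∀ x ∈ Q, x ^ 3 = 1) ∧
    ∃ a ∈ Q, ∃ b ∈ Q, a * b ≠ b * a := by
  have : Fact (Nat.Prime 3) := ⟨Nat.prime_three⟩
  obtain ⟨Q0, hQ0⟩ := Sylow.exists_subgroup_card_pow_prime (G := sub27 F) 3 (n := 3)
    (by rw [card_sub27 B F]; norm_num)
  set Q := Q0.map (sub27 F).subtype with hQ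
  have hQle : Q ≤ sub27 F := map_subtype_le _
  have hQc : Q ≤ Cen z := fun x hx => ((mem_sub27 F).1 (hQle hx)).1
  have hcard : Nat.card Q = 27 := by
    rw [← Nat.card_congr (Q0.equivMapOfInjective _ (sub27 F).subtype_injective).toEquiv, hQ0]
    norm_num
  have hinter : ∀ x ∈ Q, x ∈ Rad z → x = 1 := fun x hx hxE => by
    have h1 := Subgroup.orderOf_dvd_natCard _ hx
    have h2 := Subgroup.orderOf_dvd_natCard _ hxE
    rw [hcard] at h1; rw [B.card_rad] at h2
    exact orderOf_eq_one_iff.1 (Nat.eq_one_of_dvd_coprimes (by norm_num) h1 h2)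
  let g : ↥Q → {m // m ∈ mats27} := fun x => ⟨F.mat x, ((mem_sub27 F).1 (hQle x.2)).2⟩
  have hg : Function.Injective g := fun x y h => by
    have e : F.mat (x : G) = F.mat y := congrArg Subtype.val h
    refine Subtype.ext (inv_mul_eq_one.1 (hinter _ (mul_mem (inv_mem y.2) x.2) ?_)).symm
    refine (F.mat_eq_id _ (mul_mem (inv_mem (hQc y.2)) (hQc x.2))).1 ?_
    rw [F.mat_mul _ (inv_mem (hQc y.2)) _ (hQc x.2), e, ← F.mat_mul _ (inv_mem (hQc y.2)) _ (hQc y.2),
      inv_mul_cancel, (F.mat_eq_id 1 (one_mem _)).2 (one_mem _)]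
  have hgs : Function.Surjective g := ((Nat.bijective_iff_injective_and_card g).2 ⟨hg, by
    have := Fintype.ofFinite {m // m ∈ mats27}
    rw [hcard, Nat.card_eq_fintype_card, Fintype.card_of_subtype mats27.toFinset (by simp),
      List.toFinset_card_of_nodup mats27_nodup.1, mats27_nodup.2]⟩).2
  refine ⟨Q, hQc, hcard, fun x hx => hinter _ (pow_mem hx 3) ?_, ?_⟩
  · refine (F.mat_eq_id _ (pow_mem (hQc hx) 3)).1 ?_
    have hm := ((mem_sub27 F).1 (hQle hx)).2
    rw [show x ^ 3 = x * (x * x) by rw [pow_succ', pow_two],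
      F.mat_mul _ (hQc hx) _ (mul_mem (hQc hx) (hQc hx)), F.mat_mul _ (hQc hx) _ (hQc hx)]
    exact (mats27_id hm).2
  · obtain ⟨m, hm, h⟩ := List.any_eq_true.1 mats27_nonabelian
    obtain ⟨n, hn, h⟩ := List.any_eq_true.1 h
    obtain ⟨a, ha⟩ := hgs ⟨m, hm⟩
    obtain ⟨b, hb⟩ := hgs ⟨n, hn⟩
    have ea : F.mat (a : G) = m := congrArg Subtype.val ha
    have eb : F.mat (b : G) = n := congrArg Subtype.val hb
    refine ⟨a, a.2, b, b.2, fun e => ?_⟩
    have := congrArg F.mat e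
    rw [F.mat_mul _ (hQc a.2) _ (hQc b.2), F.mat_mul _ (hQc b.2) _ (hQc a.2), ea, eb] at this
    rw [this, eqM_refl] at h
    simp at h

include B in
theorem ker_card : Nat.card B.proj.ker = 3 * 2 ^ 13 := by
  have h := Subgroup.card_eq_card_quotient_mul_card_subgroup B.proj.ker
  rw [Nat.card_congr (QuotientGroup.quotientKerEquivOfSurjective _ B.surj).toEquiv, card_aut,
    B.card_cen] at h
  omega

include B in
theorem factorization_cen : (Nat.card (Cen z)).factorization 3 = 3 := by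
  rw [B.card_cen, show 887040 * (3 * 2 ^ 13) = 3 ^ 3 * (98560 * 2 ^ 13) by norm_num,
    Nat.factorization_mul (by norm_num) (by norm_num), Nat.Prime.factorization_pow Nat.prime_three,
    Finsupp.add_apply, Finsupp.single_eq_same, Nat.factorization_eq_zero_of_not_dvd (by norm_num)]

include B in
/-- A subgroup of order three in the kernel is conjugate to `P`. -/
theorem ker_conj {W : Subgroup G} (hW : W ≤ Cen z) (hc : Nat.card W = 3)
    (hk : ∀ w, ∀ hw : w ∈ W, B.proj ⟨w, hW hw⟩ = 1) :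
    ∃ h ∈ Cen z, W = P.map (MulAut.conj h).toMonoidHom := by
  have : Fact (Nat.Prime 3) := ⟨Nat.prime_three⟩
  set K := B.proj.ker
  have hf : (Nat.card K).factorization 3 = 1 := by
    rw [ker_card B, show 3 * 2 ^ 13 = 3 ^ 1 * (2 ^ 13) by norm_num,
      Nat.factorization_mul (by norm_num) (by norm_num), Nat.Prime.factorization_pow Nat.prime_three,
      Finsupp.add_apply, Finsupp.single_eq_same, Nat.factorization_eq_zero_of_not_dvd (by norm_num)]
  have hWK : W.subgroupOf (Cen z) ≤ K := fun x hx => hk _ hx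
  have hPK : P.subgroupOf (Cen z) ≤ K := fun x hx => B.proj_p hx
  let SW := Sylow.ofCard ((W.subgroupOf (Cen z)).subgroupOf K) (by
    rw [Nat.card_congr (Subgroup.subgroupOfEquivOfLe hWK).toEquiv,
      Nat.card_congr (Subgroup.subgroupOfEquivOfLe hW).toEquiv, hc, hf, pow_one])
  let SP := Sylow.ofCard ((P.subgroupOf (Cen z)).subgroupOf K) (by
    rw [Nat.card_congr (Subgroup.subgroupOfEquivOfLe hPK).toEquiv,
      Nat.card_congr (Subgroup.subgroupOfEquivOfLe B.p_le).toEquiv, B.card_p, hf, pow_one])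
  obtain ⟨k, hk'⟩ := MulAction.exists_smul_eq K SP SW
  refine ⟨((k : ↥(Cen z)) : G), (k : ↥(Cen z)).2, (Subgroup.eq_of_le_of_card_ge ?_ ?_).symm⟩
  · rintro _ ⟨p, hp, rfl⟩
    have hpK : (⟨p, B.p_le hp⟩ : ↥(Cen z)) ∈ K := B.proj_p hp
    have h2 : k * ⟨⟨p, B.p_le hp⟩, hpK⟩ * k⁻¹ ∈ (SW : Subgroup K) := by
      rw [← hk']
      exact ⟨⟨⟨p, B.p_le hp⟩, hpK⟩, hp, rfl⟩
    exact h2
  · rw [hc, Subgroup.card_map_of_injective (MulAut.conj _).injective, B.card_p]

include B F in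
/-- The subgroups of order twenty-seven. -/
theorem struct27 {X : Subgroup G} (hX : X ≤ Cen z) (hc : Nat.card X = 27) :
    (∀ x ∈ X, x ^ 3 = 1) ∧ (∃ a ∈ X, ∃ b ∈ X, a * b ≠ b * a) ∧
      ∃ h ∈ Cen z, X ⊓ centralizer (X : Set G) = P.map (MulAut.conj h).toMonoidHom ∧
        ∀ x, ∀ hx : x ∈ X, B.proj ⟨x, hX hx⟩ = 1 → x ∈ P.map (MulAut.conj h).toMonoidHom := by
  have : Fact (Nat.Prime 3) := ⟨Nat.prime_three⟩
  obtain ⟨Q, hQ, hQc, hQ3, a, ha, b, hb, hab⟩ := exists_ex B F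
  have hf : Nat.card (Cen z) ≠ 0 := Nat.card_pos.ne'
  let SX := Sylow.ofCard (X.subgroupOf (Cen z)) (by
    rw [Nat.card_congr (Subgroup.subgroupOfEquivOfLe hX).toEquiv, hc, factorization_cen B]; norm_num)
  let SQ := Sylow.ofCard (Q.subgroupOf (Cen z)) (by
    rw [Nat.card_congr (Subgroup.subgroupOfEquivOfLe hQ).toEquiv, hQc, factorization_cen B]; norm_num)
  obtain ⟨k, hk⟩ := MulAction.exists_smul_eq ↥(Cen z) SQ SX
  have hmap : ∀ q ∈ Q, (k : G) * q * (k : G)⁻¹ ∈ X := fun q hq => by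
    have h2 : k * ⟨q, hQ hq⟩ * k⁻¹ ∈ (SX : Subgroup ↥(Cen z)) := by
      rw [← hk]
      exact ⟨⟨q, hQ hq⟩, hq, rfl⟩
    exact h2
  have hXeq : Q.map (MulAut.conj (k : G)).toMonoidHom = X :=
    Subgroup.eq_of_le_of_card_ge (by rintro _ ⟨q, hq, rfl⟩; exact hmap q hq)
      (by rw [hc, Subgroup.card_map_of_injective (MulAut.conj _).injective, hQc])
  refine ⟨fun x hx => ?_, ⟨_, hmap a ha, _, hmap b hb, fun e => hab ?_⟩, ?_⟩
  · rw [← hXeq] at hx
    obtain ⟨q, hq, rfl⟩ := hx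
    rw [← map_pow, hQ3 q hq, map_one]
  · exact (MulAut.conj (k : G)).injective (by simpa only [map_mul, MulAut.conj_apply] using e)
  have hna : ∃ a ∈ X, ∃ b ∈ X, a * b ≠ b * a :=
    ⟨_, hmap a ha, _, hmap b hb, fun e =>
      hab ((MulAut.conj (k : G)).injective (by simpa only [map_mul, MulAut.conj_apply] using e))⟩
  set W := X ⊓ (B.proj.ker).map (Cen z).subtype with hW
  have hWk : ∀ w, ∀ hw : w ∈ W, B.proj ⟨w, hX hw.1⟩ = 1 := fun w hw => by
    obtain ⟨y, hy, rfl⟩ := hw.2; exact hy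
  have hWcard : Nat.card W = 3 := by
    have h1 : Nat.card W ∣ 27 := hc ▸ Subgroup.card_dvd_of_le inf_le_left
    have h2 : Nat.card W ∣ 3 * 2 ^ 13 := by
      rw [← ker_card B, ← Subgroup.card_map_of_injective (Cen z).subtype_injective]
      exact Subgroup.card_dvd_of_le inf_le_right
    have h3 : Nat.card W ∣ 3 := by
      have := Nat.dvd_gcd h1 h2
      norm_num at this; exact this
    rcases (Nat.dvd_prime Nat.prime_three).1 h3 with h | h
    · exfalso
      have hinj : Function.Injective (fun x : X => B.proj ⟨x, hX x.2⟩) := fun x y e => by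
        simp only at e
        have hm : (y : G)⁻¹ * x ∈ W := ⟨X.mul_mem (X.inv_mem y.2) x.2,
          ⟨(⟨y, hX y.2⟩ : ↥(Cen z))⁻¹ * ⟨x, hX x.2⟩, by
            show _ ∈ B.proj.ker
            rw [MonoidHom.mem_ker, map_mul, map_inv, e, inv_mul_cancel], rfl⟩⟩
        rw [Subgroup.card_eq_one.1 h, mem_bot, inv_mul_eq_one] at hm
        exact Subtype.ext hm.symm
      have hd : Nat.card X ∣ Nat.card (MulAut M) :=
        Subgroup.card_dvd_of_injective ((B.proj.comp (Subgroup.inclusion hX))) hinj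
      rw [hc, card_aut] at hd; norm_num at hd
    · exact h
  obtain ⟨h, hh, hWP⟩ := ker_conj B (inf_le_left.trans hX) hWcard (fun w hw => hWk w hw)
  refine ⟨h, hh, ?_, fun x hx hx1 => hWP ▸ ⟨hx, ⟨⟨x, hX hx⟩, hx1, rfl⟩⟩⟩
  rw [← hWP]
  set Z := X ⊓ centralizer (X : Set G) with hZ
  have hWZ : W ≤ Z := fun w hw => by
    refine ⟨hw.1, mem_centralizer_iff.2 fun x hx => ?_⟩
    -- conjugation on the normal subgroup of order three fixes it
    have hn : ∀ y ∈ X, ∀ v ∈ W, y * v * y⁻¹ ∈ W := fun y hy v hv => by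
      refine ⟨X.mul_mem (X.mul_mem hy hv.1) (X.inv_mem hy), ?_⟩
      obtain ⟨u, hu, rfl⟩ := hv.2
      exact ⟨(⟨y, hX hy⟩ : ↥(Cen z)) * u * (⟨y, hX hy⟩ : ↥(Cen z))⁻¹,
        (inferInstance : B.proj.ker.Normal).conj_mem _ hu _, rfl⟩
    obtain ⟨p, hp⟩ : ∃ p, W = zpowers p := by
      have : IsCyclic W := isCyclic_of_prime_card hWcard
      obtain ⟨g, hg⟩ := IsCyclic.exists_generator (α := W)
      exact ⟨g, le_antisymm (fun v hv => by
        obtain ⟨i, hi⟩ := hg ⟨v, hv⟩; exact ⟨i, congrArg Subtype.val hi⟩) (zpowers_le.2 g.2)⟩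
    have hpo : orderOf p = 3 := by rw [← Nat.card_zpowers, ← hp, hWcard]
    have hxp : x * p = p * x := by
      obtain ⟨i, hi⟩ := (IsOfFinOrder.mem_powers_iff_mem_zpowers (isOfFinOrder_of_finite p)).2
        (hp ▸ hn x hx p (hp ▸ mem_zpowers p) : x * p * x⁻¹ ∈ zpowers p)
      simp only at hi
      have hit : ∀ n : ℕ, x ^ n * p * (x ^ n)⁻¹ = p ^ (i ^ n) := by
        intro n
        induction n with
        | zero => simp
        | succ n ih =>
          calc x ^ (n + 1) * p * (x ^ (n + 1))⁻¹ = x * (x ^ n * p * (x ^ n)⁻¹) * x⁻¹ := by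
                rw [pow_succ']; group
            _ = (x * p * x⁻¹) ^ (i ^ n) := by rw [ih, conj_pow]
            _ = p ^ (i ^ (n + 1)) := by rw [← hi, ← pow_mul, pow_succ']
      have hx27 : x ^ 27 = 1 := by
        have := congrArg Subtype.val (pow_card_eq_one' (x := (⟨x, hx⟩ : X)))
        rwa [hc] at this
      have h27 := hit 27
      rw [hx27, one_mul, inv_one, mul_one, ← pow_mod_orderOf p (i ^ 27), hpo, Nat.pow_mod] at h27
      have hlt : i % 3 < 3 := Nat.mod_lt _ (by norm_num)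
      rw [← pow_mod_orderOf, hpo] at hi
      have hp1 : p ≠ 1 := fun e => by rw [e, orderOf_one] at hpo; omega
      have hsq : p ≠ p ^ 2 := fun e => hp1 (by
        rw [pow_two] at e; exact (left_eq_mul.1 e))
      rcases (show i % 3 = 0 ∨ i % 3 = 1 ∨ i % 3 = 2 by omega) with e | e | e <;> rw [e] at h27 hi
      · exact absurd (by simpa using h27) hp1
      · rw [pow_one] at hi; exact mul_inv_eq_iff_eq_mul.1 hi.symm
      · exact absurd (by simpa using h27) hsq
    rw [hp] at hw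
    obtain ⟨i, rfl⟩ := hw
    exact ((show Commute x p from hxp).zpow_right i).eq
  refine (Subgroup.eq_of_le_of_card_ge hWZ ?_).symm
  have hd : Nat.card Z ∣ 27 := hc ▸ Subgroup.card_dvd_of_le inf_le_left
  rw [hWcard]
  by_contra hgt
  obtain ⟨u, hu, v, hv, huv⟩ := hna
  have hcases : Nat.card Z = 9 ∨ Nat.card Z = 27 := by
    have : Nat.card Z ∈ Nat.divisors 27 := Nat.mem_divisors.2 ⟨hd, by norm_num⟩
    rw [show Nat.divisors 27 = {1, 3, 9, 27} by decide +kernel] at this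
    simp only [Finset.mem_insert, Finset.mem_singleton] at this; omega
  have hall : ∀ y ∈ X, y ∈ Z := by
    intro y hy
    by_contra hyZ
    have hle : Z ≤ X ⊓ centralizer ({y} : Set G) := fun w hw =>
      ⟨hw.1, mem_centralizer_singleton_iff.2 (mem_centralizer_iff.1 hw.2 y hy).symm⟩
    have hlt : Nat.card Z < Nat.card ↥(X ⊓ centralizer ({y} : Set G)) := by
      refine lt_of_le_of_ne (Subgroup.card_le_of_le hle) fun e => hyZ ?_
      rw [Subgroup.eq_of_le_of_card_ge hle e.ge]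
      exact ⟨hy, mem_centralizer_singleton_iff.2 rfl⟩
    have hd2 : Nat.card ↥(X ⊓ centralizer ({y} : Set G)) ∣ 27 :=
      hc ▸ Subgroup.card_dvd_of_le inf_le_left
    have h27 : Nat.card ↥(X ⊓ centralizer ({y} : Set G)) = 27 := by
      have : Nat.card ↥(X ⊓ centralizer ({y} : Set G)) ∈ Nat.divisors 27 :=
        Nat.mem_divisors.2 ⟨hd2, by norm_num⟩
      rw [show Nat.divisors 27 = {1, 3, 9, 27} by decide +kernel] at this
      simp only [Finset.mem_insert, Finset.mem_singleton] at this; omega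
    have heq := Subgroup.eq_of_le_of_card_ge (show X ⊓ centralizer ({y} : Set G) ≤ X from inf_le_left)
      (by rw [hc, h27])
    exact hyZ ⟨hy, mem_centralizer_iff.2 fun w hw =>
      mem_centralizer_singleton_iff.1 (heq.ge hw).2⟩
  exact huv (mem_centralizer_iff.1 (hall v hv).2 u hu)

end CfsgLib.J4Type.Three
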