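import Cfsg.Agent.Lib.J4Type.Three.Main

/-!
The statements on the elements of order three, from a frame and the local analysis.
-/

set_option autoImplicit false

namespace CfsgLib.J4Type.Three

open Cfsg Subgroup CfsgLib.J4Type.CoreP

variable {G : Type*} [Group G] [Finite G] {z : G} {P : Subgroup G}

/-- The sixfold cover and the normaliser of `P`. -/
theorem six_fold_cover (F : Frame z P) {D : VData F} (L : Local D) :
    ⁅CP z P, CP z P⁆ = CP z P ∧
    IsCyclic ↥(Subgroup.center ↥(CP z P)) ∧ Nat.card ↥(Subgroup.center ↥(CP z P)) = 6 ∧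
    Spor.IsoM22 (↥(CP z P) ⧸ Subgroup.center ↥(CP z P)) ∧
    normalizer (P : Set G) ≤ Cen z := by
  obtain ⟨B⟩ := exists_base F
  exact ⟨B.C_perfect F L.z_derived, B.center_cyclic F, B.center_card F, B.center_quot F,
    B.normalizer_le_cen F L⟩

/-- The Sylow `3`-subgroups. -/
theorem sylow_three (F : Frame z P) {D : VData F} (L : Local D) (R : Sylow 3 G)
    (hR : (R : Subgroup G) ≤ Cen z) :
    IsExtraspecial 3 ↥(R : Subgroup G) ∧ Nat.card ↥(R : Subgroup G) = 27 ∧
    Monoid.exponent ↥(R : Subgroup G) = 3 ∧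
    normalizer ((R : Subgroup G) : Set G) ≤ Cen z ∧
    Nat.card ↥(normalizer ((R : Subgroup G) : Set G)) = 864 := by
  obtain ⟨B⟩ := exists_base F
  have hc := sylow_card B R hR
  have hN := B.normalizer_le_cen F L
  obtain ⟨h1, h2⟩ := extraspecial27 B F hR hc
  exact ⟨h1, hc, h2, norm27_le B F hN hR hc, card_normalizer27 B F hN hR hc⟩

/-- One class of elements of order three. -/
theorem order_three_conj (F : Frame z P) {D : VData F} (L : Local D) :
    ∀ x y : G, orderOf x = 3 → orderOf y = 3 → IsConj x y := by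
  obtain ⟨B⟩ := exists_base F
  exact fun _ _ hx hy => one_class B F L hx hy

end CfsgLib.J4Type.Three
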