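import Cfsg.Agent.Lib.J4Type.CoreP.Norm

/-!
The conclusions on the elements of order three of a group of Janko-four type.
-/

set_option autoImplicit false
set_option linter.unusedSectionVars false

namespace CfsgLib.J4Type.Three

open Cfsg Subgroup CfsgLib.J4Type.CoreP

variable {G : Type*} [Group G] [Finite G] {z : G} {P : Subgroup G}
variable (B : Base z P) (F : Frame z P) {D : VData F} (L : Local D)

theorem mem_conj_map {h : G} {X : Subgroup G} {x : G} :
    x ∈ X.map (MulAut.conj h).toMonoidHom ↔ h⁻¹ * x * h ∈ X := by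
  rw [mem_map_equiv, MulAut.conj_symm_apply]

include B in
theorem proj_conj {h x : G} (hh : h ∈ Cen z) (hx : x ∈ Cen z) (hc : h⁻¹ * x * h ∈ Cen z)
    (h1 : B.proj ⟨x, hx⟩ = 1) : B.proj ⟨h⁻¹ * x * h, hc⟩ = 1 := by
  rw [show (⟨h⁻¹ * x * h, hc⟩ : ↥(Cen z)) = (⟨h, hh⟩ : ↥(Cen z))⁻¹ * ⟨x, hx⟩ * ⟨h, hh⟩ from rfl,
    map_mul, map_mul, h1, mul_one, map_inv, inv_mul_cancel]

include B in
theorem proj_conjP {h x : G} (hh : h ∈ Cen z) (hx : x ∈ P.map (MulAut.conj h).toMonoidHom)
    (hxc : x ∈ Cen z) : B.proj ⟨x, hxc⟩ = 1 := by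
  obtain ⟨p, hp, e⟩ := hx
  rw [show (⟨x, hxc⟩ : ↥(Cen z)) = (⟨h, hh⟩ : ↥(Cen z)) * ⟨p, B.p_le hp⟩ * (⟨h, hh⟩ : ↥(Cen z))⁻¹
    from Subtype.ext e.symm, map_mul, map_mul, B.proj_p hp, mul_one, map_inv, mul_inv_cancel]

include B F in
/-- A subgroup of order twenty-seven of `H` has normaliser inside `H`. -/
theorem norm27_le (hN : normalizer (P : Set G) ≤ Cen z) {X : Subgroup G} (hX : X ≤ Cen z)
    (hc : Nat.card X = 27) : normalizer (X : Set G) ≤ Cen z := by
  obtain ⟨-, -, h, hh, hcent, -⟩ := struct27 B F hX hc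
  intro n hn
  have key : ∀ m ∈ normalizer (X : Set G), ∀ v ∈ X ⊓ centralizer (X : Set G),
      m * v * m⁻¹ ∈ X ⊓ centralizer (X : Set G) := by
    intro m hm v hv
    refine ⟨(mem_normalizer_iff.1 hm v).1 hv.1, mem_centralizer_iff.2 fun y hy => ?_⟩
    have hy' : m⁻¹ * y * m ∈ X := (mem_normalizer_iff''.1 hm y).1 hy
    calc y * (m * v * m⁻¹) = m * (m⁻¹ * y * m * v) * m⁻¹ := by group
      _ = m * (v * (m⁻¹ * y * m)) * m⁻¹ := by rw [mem_centralizer_iff.1 hv.2 _ hy']
      _ = m * v * m⁻¹ * y := by group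
  have hm : h⁻¹ * n * h ∈ normalizer (P : Set G) := by
    have hfwd : ∀ m ∈ normalizer (X : Set G), ∀ p ∈ P,
        (h⁻¹ * m * h) * p * (h⁻¹ * m * h)⁻¹ ∈ P := by
      intro m hm p hp
      have h1 := key m hm (h * p * h⁻¹) (hcent ▸ ⟨p, hp, rfl⟩)
      rw [hcent, mem_conj_map] at h1
      convert h1 using 1
      group
    rw [mem_normalizer_iff]
    refine fun p => ⟨hfwd n hn p, fun hp => ?_⟩
    have := hfwd n⁻¹ (inv_mem hn) _ hp
    convert this using 1
    group
  have h1 := mul_mem (mul_mem hh (hN hm)) (inv_mem hh)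
  rwa [show h * (h⁻¹ * n * h) * h⁻¹ = n by group] at h1

include B F in
theorem exists_sylow_le (hN : normalizer (P : Set G) ≤ Cen z) :
    ∃ R : Sylow 3 G, (R : Subgroup G) ≤ Cen z ∧ Nat.card (R : Subgroup G) = 27 := by
  have : Fact (Nat.Prime 3) := ⟨Nat.prime_three⟩
  obtain ⟨Q, hQ, hQc, -⟩ := exists_ex B F
  obtain ⟨S, hS⟩ := (IsPGroup.of_card (n := 3) (by rw [hQc]; norm_num) : IsPGroup 3 Q).exists_le_sylow
  refine ⟨S, ?_⟩
  suffices h : (S : Subgroup G) = Q by rw [h]; exact ⟨hQ, hQc⟩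
  by_contra hne
  have hnil : Group.IsNilpotent (S : Subgroup G) := S.2.isNilpotent
  have hlt : Q.subgroupOf (S : Subgroup G) < ⊤ := by
    refine lt_top_iff_ne_top.2 fun h => hne (le_antisymm (subgroupOf_eq_top.1 h) hS)
  obtain ⟨x, hxn, hxQ⟩ := SetLike.exists_of_lt (Group.normalizerCondition_of_isNilpotent _ hlt)
  have hxn' : (x : G) ∈ normalizer (Q : Set G) := by
    rw [mem_normalizer_iff]
    intro y
    constructor
    · intro hy
      exact (mem_normalizer_iff.1 hxn ⟨y, hS hy⟩).1 hy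
    · intro hy
      have hy' : y ∈ (S : Subgroup G) := by
        have := mul_mem (mul_mem (inv_mem x.2) (hS hy)) x.2
        simpa [mul_assoc] using this
      exact (mem_normalizer_iff.1 hxn ⟨y, hy'⟩).2 hy
  have hxH := norm27_le B F hN hQ hQc hxn'
  have hle : Q ⊔ zpowers (x : G) ≤ (S : Subgroup G) ⊓ Cen z :=
    sup_le (le_inf hS hQ) (zpowers_le.2 ⟨x.2, hxH⟩)
  have hdvd : Nat.card ↥((S : Subgroup G) ⊓ Cen z : Subgroup G) ∣ 27 := by
    obtain ⟨k, hk⟩ := IsPGroup.iff_card.1 (S.2.to_le (inf_le_left (b := Cen z)))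
    rw [hk, show (27 : ℕ) = 3 ^ 3 from rfl]
    refine pow_dvd_pow 3 ?_
    have h1 : 3 ^ k ∣ Nat.card (Cen z) := hk ▸ Subgroup.card_dvd_of_le inf_le_right
    exact (factorization_cen B) ▸
      (Nat.Prime.pow_dvd_iff_le_factorization Nat.prime_three Nat.card_pos.ne').1 h1
  have heq := Subgroup.eq_of_le_of_card_ge (le_inf hS hQ) (hQc.symm ▸ Nat.le_of_dvd (by norm_num) hdvd)
  exact hxQ (show (x : G) ∈ Q from heq.ge (hle (mem_sup_right (mem_zpowers _))))

include B in
theorem sylow_card (R : Sylow 3 G) (hR : (R : Subgroup G) ≤ Cen z) :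
    Nat.card (R : Subgroup G) = 27 := by
  have : Fact (Nat.Prime 3) := ⟨Nat.prime_three⟩
  have h := (R.subtype hR).card_eq_multiplicity
  rw [factorization_cen B, R.coe_subtype,
    Nat.card_congr (Subgroup.subgroupOfEquivOfLe hR).toEquiv] at h
  exact h.trans (by norm_num)

include B F in
theorem extraspecial27 {X : Subgroup G} (hX : X ≤ Cen z) (hc : Nat.card X = 27) :
    IsExtraspecial 3 ↥X ∧ Monoid.exponent ↥X = 3 := by
  have : Fact (Nat.Prime 3) := ⟨Nat.prime_three⟩
  obtain ⟨h3, ⟨a, ha, b, hb, hab⟩, h, hh, hcent, -⟩ := struct27 B F hX hc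
  have hp : IsPGroup 3 X := IsPGroup.of_card (n := 3) (by rw [hc]; norm_num)
  have hZmap : (Subgroup.center ↥X).map X.subtype = X ⊓ centralizer (X : Set G) := by
    ext x
    constructor
    · rintro ⟨y, hy, rfl⟩
      exact ⟨y.2, mem_centralizer_iff.2 fun w hw =>
        congrArg Subtype.val (Subgroup.mem_center_iff.1 hy ⟨w, hw⟩)⟩
    · rintro ⟨hx, hxc⟩
      exact ⟨⟨x, hx⟩, Subgroup.mem_center_iff.2 fun w =>
        Subtype.ext (mem_centralizer_iff.1 hxc w w.2), rfl⟩
  have hZ : Nat.card (Subgroup.center ↥X) = 3 := by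
    rw [← Subgroup.card_map_of_injective X.subtype_injective, hZmap, hcent,
      Subgroup.card_map_of_injective (MulAut.conj _).injective, B.card_p]
  have hnab : ¬ ∀ u v : ↥X, u * v = v * u := fun H => hab (congrArg Subtype.val (H ⟨a, ha⟩ ⟨b, hb⟩))
  have hcomm : commutator ↥X = Subgroup.center ↥X := by
    have hle : commutator ↥X ≤ Subgroup.center ↥X := by
      have hq : Nat.card (↥X ⧸ Subgroup.center ↥X) = 3 ^ 2 := by
        have := Subgroup.card_eq_card_quotient_mul_card_subgroup (Subgroup.center ↥X)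
        rw [hc, hZ] at this; omega
      rw [commutator_def, commutator_le]
      intro u _ v _
      rw [← QuotientGroup.eq_one_iff]
      exact (map_commutatorElement (QuotientGroup.mk' (Subgroup.center ↥X)) u v).trans
        (commutatorElement_eq_one_iff_mul_comm.2 (IsPGroup.commutative_of_card_eq_prime_sq hq _ _))
    refine Subgroup.eq_of_le_of_card_ge hle ?_
    have hd := Subgroup.card_dvd_of_le hle
    rw [hZ] at hd ⊢
    rcases (Nat.dvd_prime Nat.prime_three).1 hd with e | e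
    · exfalso
      refine hnab fun u v => commutatorElement_eq_one_iff_mul_comm.1 ?_
      rw [← Subgroup.mem_bot, ← Subgroup.card_eq_one.1 e, commutator_def]
      exact commutator_mem_commutator (mem_top _) (mem_top _)
    · exact e.ge
  have hfr : frattini ↥X = Subgroup.center ↥X := by
    refine le_antisymm (fun u hu => ?_) ?_
    · by_contra huZ
      obtain ⟨v, hv⟩ : ∃ v, v ∉ Subgroup.center ↥X ⊔ zpowers u := by
        by_contra H
        push Not at H
        refine hnab fun s t => ?_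
        have hle : (Subgroup.center ↥X ⊔ zpowers u) ≤ centralizer ({u} : Set ↥X) := sup_le
          (fun w hw => mem_centralizer_singleton_iff.2 (Subgroup.mem_center_iff.1 hw u).symm)
          (zpowers_le.2 (mem_centralizer_singleton_iff.2 rfl))
        exact absurd (Subgroup.mem_center_iff.2 fun w =>
          mem_centralizer_singleton_iff.1 (hle (H w))) huZ
      set M0 := Subgroup.center ↥X ⊔ zpowers v with hM0
      have hM0ne : M0 ≠ ⊤ := fun e => by
        have hle : M0 ≤ centralizer ({v} : Set ↥X) := sup_le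
          (fun w hw => mem_centralizer_singleton_iff.2 (Subgroup.mem_center_iff.1 hw v).symm)
          (zpowers_le.2 (mem_centralizer_singleton_iff.2 rfl))
        exact hv (mem_sup_left (Subgroup.mem_center_iff.2 fun w =>
          mem_centralizer_singleton_iff.1 (hle (e ▸ mem_top w))))
      have hlt : Subgroup.center ↥X < M0 := lt_of_le_of_ne le_sup_left fun e =>
        hv (mem_sup_left (e ▸ mem_sup_right (mem_zpowers v)))
      have hcard9 : Nat.card M0 = 9 := by
        have hd := Subgroup.card_subgroup_dvd_card M0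
        rw [hc] at hd
        have h2 : Nat.card M0 ≠ 27 := fun e => hM0ne (Subgroup.eq_top_of_card_eq _ (e.trans hc.symm))
        have h3 : 3 < Nat.card M0 := by
          rw [← hZ]
          refine lt_of_le_of_ne (Subgroup.card_le_of_le hlt.le) fun e => hlt.ne
            (Subgroup.eq_of_le_of_card_ge hlt.le e.ge)
        have : ∀ m ∈ Nat.divisors 27, m ≠ 27 → 3 < m → m = 9 := by decide +kernel
        exact this _ (Nat.mem_divisors.2 ⟨hd, by norm_num⟩) h2 h3
      have hmax : IsCoatom M0 := ⟨hM0ne, fun W hW => by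
        refine Subgroup.eq_top_of_card_eq _ (Eq.trans ?_ hc.symm)
        have hd := Subgroup.card_subgroup_dvd_card W
        rw [hc] at hd
        have h2 : 9 < Nat.card W := by
          rw [← hcard9]
          exact lt_of_le_of_ne (Subgroup.card_le_of_le hW.le) fun e =>
            hW.ne (Subgroup.eq_of_le_of_card_ge hW.le e.ge)
        have : ∀ m ∈ Nat.divisors 27, 9 < m → m = 27 := by decide +kernel
        exact this _ (Nat.mem_divisors.2 ⟨hd, by norm_num⟩) h2⟩
      have hu' : u ∈ M0 := frattini_le_coatom hmax hu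
      have hlt2 : Subgroup.center ↥X ⊔ zpowers u = M0 := by
        refine Subgroup.eq_of_le_of_card_ge (sup_le le_sup_left (zpowers_le.2 hu')) ?_
        rw [hcard9]
        have hd := Subgroup.card_subgroup_dvd_card (Subgroup.center ↥X ⊔ zpowers u)
        rw [hc] at hd
        have h3 : 3 < Nat.card ↥(Subgroup.center ↥X ⊔ zpowers u) := by
          rw [← hZ]
          exact lt_of_le_of_ne (Subgroup.card_le_of_le le_sup_left) fun e =>
            huZ ((Subgroup.eq_of_le_of_card_ge le_sup_left e.ge).ge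
              (mem_sup_right (mem_zpowers u)))
        have : ∀ m ∈ Nat.divisors 27, 3 < m → 9 ≤ m := by decide +kernel
        exact this _ (Nat.mem_divisors.2 ⟨hd, by norm_num⟩) h3
      exact hv (hlt2.ge (mem_sup_right (mem_zpowers v)))
    · refine le_iInf₂ fun W hW => ?_
      by_contra hle
      have hsup : W ⊔ Subgroup.center ↥X = ⊤ := hW.2 _ (left_lt_sup.2 hle)
      have hd := Subgroup.card_subgroup_dvd_card W
      rw [hc] at hd
      have hW27 : Nat.card W ≠ 27 := fun e => hW.1 (Subgroup.eq_top_of_card_eq _ (e.trans hc.symm))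
      have hWab : ∀ s ∈ W, ∀ t ∈ W, s * t = t * s := by
        have hcases : ∀ m ∈ Nat.divisors 27, m ≠ 27 → m = 1 ∨ m = 3 ∨ m = 3 ^ 2 := by decide +kernel
        intro s hs t ht
        rcases hcases _ (Nat.mem_divisors.2 ⟨hd, by norm_num⟩) hW27 with e | e | e
        · rw [Subgroup.card_eq_one] at e
          rw [e, Subgroup.mem_bot] at hs
          rw [hs, one_mul, mul_one]
        · have := isCyclic_of_prime_card e
          have := IsCyclic.commutative (α := W)
          exact congrArg Subtype.val (this.1.comm ⟨s, hs⟩ ⟨t, ht⟩)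
        · exact congrArg Subtype.val (IsPGroup.commutative_of_card_eq_prime_sq e ⟨s, hs⟩ ⟨t, ht⟩)
      refine hnab fun s t => ?_
      have h1 : (⊤ : Subgroup ↥X) ≤ centralizer (W : Set ↥X) := by
        rw [← hsup]
        exact sup_le (fun w hw => mem_centralizer_iff.2 fun t ht => hWab t ht w hw)
          (fun w hw => mem_centralizer_iff.2 fun t _ => Subgroup.mem_center_iff.1 hw t)
      have h2 : (⊤ : Subgroup ↥X) ≤ centralizer ({s} : Set ↥X) := by
        rw [← hsup]
        exact sup_le (fun w hw => mem_centralizer_singleton_iff.2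
          (mem_centralizer_iff.1 (h1 (mem_top s)) w hw))
          (fun w hw => mem_centralizer_singleton_iff.2 (Subgroup.mem_center_iff.1 hw s).symm)
      exact (mem_centralizer_singleton_iff.1 (h2 (mem_top t))).symm
  refine ⟨⟨⟨hp, hfr, hcomm⟩, hZ⟩, ?_⟩
  refine (Nat.dvd_prime Nat.prime_three).1
    (Monoid.exponent_dvd_of_forall_pow_eq_one fun x => Subtype.ext (h3 x x.2)) |>.resolve_left ?_
  intro e
  rw [Monoid.exp_eq_one_iff] at e
  have : Nat.card ↥X = 1 := Nat.card_unique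
  rw [hc] at this; norm_num at this

include B F in
theorem card_normalizer27 (hN : normalizer (P : Set G) ≤ Cen z) {X : Subgroup G} (hX : X ≤ Cen z)
    (hc : Nat.card X = 27) : Nat.card (normalizer (X : Set G)) = 864 := by
  have : Fact (Nat.Prime 3) := ⟨Nat.prime_three⟩
  obtain ⟨-, -, h, hh, hcent, hker⟩ := struct27 B F hX hc
  set N := normalizer (X : Set G) with hNdef
  have hNH : N ≤ Cen z := norm27_le B F hN hX hc
  set P' := P.map (MulAut.conj h).toMonoidHom with hP'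
  have hP'X : P' ≤ X := by rw [← hcent]; exact inf_le_left
  obtain ⟨p0, hp0, hPp⟩ := B.exists_gen
  have hp0P : p0 ∈ P := hPp ▸ mem_zpowers p0
  set X' := X.subgroupOf (Cen z) with hX'
  set N' := N.subgroupOf (Cen z) with hN'
  set φ := B.proj.comp N'.subtype with hφ
  -- the part in the kernel
  have hkerN : ∀ x : ↥(Cen z), x ∈ N' → B.proj x = 1 →
      (x : G) ∈ (zpowers (z * p0)).map (MulAut.conj h).toMonoidHom := by
    intro x hxN hx1
    rw [mem_conj_map]
    have hy : h⁻¹ * (x : G) * h ∈ Cen z := mul_mem (mul_mem (inv_mem hh) x.2) hh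
    have h1 := proj_conj B hh x.2 hy hx1
    have hyN : h⁻¹ * (x : G) * h ∈ normalizer (P : Set G) := by
      have hfwd : ∀ m ∈ N, ∀ p ∈ P, (h⁻¹ * m * h) * p * (h⁻¹ * m * h)⁻¹ ∈ P := by
        intro m hm p hp
        have hv : h * p * h⁻¹ ∈ X ⊓ centralizer (X : Set G) := hcent ▸ ⟨p, hp, rfl⟩
        have h2 : m * (h * p * h⁻¹) * m⁻¹ ∈ X ⊓ centralizer (X : Set G) := by
          refine ⟨(mem_normalizer_iff.1 hm _).1 hv.1, mem_centralizer_iff.2 fun y hy => ?_⟩
          have hy' : m⁻¹ * y * m ∈ X := (mem_normalizer_iff''.1 hm y).1 hy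
          calc y * (m * (h * p * h⁻¹) * m⁻¹)
              = m * (m⁻¹ * y * m * (h * p * h⁻¹)) * m⁻¹ := by group
            _ = m * ((h * p * h⁻¹) * (m⁻¹ * y * m)) * m⁻¹ := by
              rw [mem_centralizer_iff.1 hv.2 _ hy']
            _ = m * (h * p * h⁻¹) * m⁻¹ * y := by group
        rw [hcent, mem_conj_map] at h2
        convert h2 using 1
        group
      rw [mem_normalizer_iff]
      refine fun p => ⟨hfwd _ hxN p, fun hp => ?_⟩
      have := hfwd (x : G)⁻¹ (N.inv_mem hxN) _ hp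
      convert this using 1
      group
    obtain ⟨p, hp, e⟩ := B.ker_norm hy hyN h1
    have hc0 : Commute z p0 := B.comm_p B.z_mem_C hp0P
    obtain ⟨k, hk⟩ := (IsOfFinOrder.mem_powers_iff_mem_zpowers (isOfFinOrder_of_finite p0)).2
      (hPp ▸ hp : p ∈ zpowers p0)
    simp only at hk
    have hz4 : z ^ 4 = 1 := by rw [show (4 : ℕ) = 2 + 2 from rfl, pow_add, pow_two, B.zz, one_mul]
    have hp3 : p0 ^ 3 = 1 := hp0 ▸ pow_orderOf_eq_one p0
    rcases e with e | e
    · refine ⟨((4 * k : ℕ) : ℤ), ?_⟩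
      show (z * p0) ^ ((4 * k : ℕ) : ℤ) = _
      rw [zpow_natCast, hc0.mul_pow, pow_mul z, hz4, one_pow, one_mul, e, ← hk,
        show 4 * k = 3 * k + k by ring, pow_add, pow_mul, hp3, one_pow, one_mul]
    · refine ⟨((4 * k + 3 : ℕ) : ℤ), ?_⟩
      show (z * p0) ^ ((4 * k + 3 : ℕ) : ℤ) = _
      rw [zpow_natCast, hc0.mul_pow, pow_add z, pow_mul z, hz4, one_pow, one_mul, e, ← hk,
        show 4 * k + 3 = 3 * (k + 1) + k by ring, pow_add, pow_mul, hp3, one_pow, one_mul,
        show z ^ 3 = z by rw [pow_succ, pow_two, B.zz, one_mul]]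
  have hzN : z ∈ N := by
    rw [mem_normalizer_iff]
    intro y
    constructor
    · intro hy; rwa [← B.comm_z (hX hy), mul_inv_cancel_right]
    · intro hy
      have hyH : y ∈ Cen z := by
        have := mul_mem (mul_mem (inv_mem B.z_mem_cen) (hX hy)) B.z_mem_cen
        simpa [mul_assoc] using this
      rwa [← B.comm_z hyH, mul_inv_cancel_right] at hy
  have hgen : h * (z * p0) * h⁻¹ ∈ N := by
    have : h * (z * p0) * h⁻¹ = z * (h * p0 * h⁻¹) := by
      rw [← mul_assoc, B.comm_z hh]; group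
    rw [this]
    exact mul_mem hzN (le_normalizer (hP'X ⟨p0, hp0P, rfl⟩))
  have hkcard : Nat.card φ.ker = 6 := by
    have heq : φ.ker.map ((Cen z).subtype.comp N'.subtype) =
        (zpowers (z * p0)).map (MulAut.conj h).toMonoidHom := by
      refine le_antisymm ?_ ?_
      · rintro _ ⟨⟨x, hxN⟩, hx1, rfl⟩
        exact hkerN x hxN hx1
      · rw [MonoidHom.map_zpowers, zpowers_le]
        refine ⟨⟨⟨h * (z * p0) * h⁻¹, hNH hgen⟩, hgen⟩, ?_, rfl⟩
        show B.proj ⟨h * (z * p0) * h⁻¹, hNH hgen⟩ = 1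
        rw [show (⟨h * (z * p0) * h⁻¹, hNH hgen⟩ : ↥(Cen z)) =
          (⟨h, hh⟩ : ↥(Cen z)) * (⟨z, B.z_mem_cen⟩ * ⟨p0, B.p_le hp0P⟩) * (⟨h, hh⟩ : ↥(Cen z))⁻¹
          from rfl, map_mul, map_mul, map_mul, B.proj_rad B.z_rad, B.proj_p hp0P, map_inv]
        simp
    have hinj : Function.Injective ((Cen z).subtype.comp N'.subtype) :=
      (Cen z).subtype_injective.comp N'.subtype_injective
    rw [← Subgroup.card_map_of_injective hinj, heq,
      Subgroup.card_map_of_injective (MulAut.conj _).injective, Nat.card_zpowers,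
      (show Commute z p0 from B.comm_p B.z_mem_C hp0P).orderOf_mul_eq_mul_orderOf_of_coprime
        (by rw [B.z_ord, hp0]; norm_num), B.z_ord, hp0]
  -- the image
  let SX : Sylow 3 ↥(Cen z) := Sylow.ofCard X' (by
    rw [hX', Nat.card_congr (Subgroup.subgroupOfEquivOfLe hX).toEquiv, hc, factorization_cen B]
    norm_num)
  set T := SX.mapSurjective B.surj with hT
  have hTe : (T : Subgroup (MulAut M)) = X'.map B.proj := rfl
  have hrange : φ.range = normalizer ((T : Subgroup (MulAut M)) : Set (MulAut M)) := by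
    refine le_antisymm ?_ ?_
    · rintro _ ⟨x, rfl⟩
      rw [hTe]
      refine Subgroup.le_normalizer_map _ ⟨(x : ↥(Cen z)), ?_, rfl⟩
      show (x : ↥(Cen z)) ∈ normalizer (X' : Set ↥(Cen z))
      rw [mem_normalizer_iff]
      intro y
      exact mem_normalizer_iff.1 x.2 (y : G)
    · intro φ0 hφ0
      obtain ⟨x, rfl⟩ := B.surj φ0
      set W := (X'.map B.proj).comap B.proj with hW
      have hXW : X' ≤ W := Subgroup.le_comap_map _ _
      have hxXW : X'.map (MulAut.conj x).toMonoidHom ≤ W := by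
        rintro _ ⟨y, hy, rfl⟩
        show B.proj (x * y * x⁻¹) ∈ X'.map B.proj
        rw [map_mul, map_mul, map_inv, ← hTe]
        exact (mem_normalizer_iff.1 hφ0 _).1 (hTe ▸ ⟨y, hy, rfl⟩)
      have hWc : Nat.card W ∣ Nat.card (Cen z) := Subgroup.card_subgroup_dvd_card W
      have hfW : (Nat.card W).factorization 3 = 3 := by
        refine le_antisymm (le_of_le_of_eq
          ((Nat.factorization_le_iff_dvd Nat.card_pos.ne' Nat.card_pos.ne').2 hWc 3)
          (factorization_cen B)) ?_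
        have : 3 ^ 3 ∣ Nat.card W := by
          rw [show (3 : ℕ) ^ 3 = 27 by norm_num, ← hc,
            ← Nat.card_congr (Subgroup.subgroupOfEquivOfLe hX).toEquiv]
          exact Subgroup.card_dvd_of_le hXW
        exact (Nat.Prime.pow_dvd_iff_le_factorization Nat.prime_three Nat.card_pos.ne').1 this
      have hcX' : Nat.card X' = 3 ^ 3 := by
        rw [hX', Nat.card_congr (Subgroup.subgroupOfEquivOfLe hX).toEquiv, hc]; norm_num
      let S1 : Sylow 3 W := Sylow.ofCard (X'.subgroupOf W) (by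
        rw [Nat.card_congr (Subgroup.subgroupOfEquivOfLe hXW).toEquiv, hcX', hfW])
      let S2 : Sylow 3 W := Sylow.ofCard ((X'.map (MulAut.conj x).toMonoidHom).subgroupOf W) (by
        rw [Nat.card_congr (Subgroup.subgroupOfEquivOfLe hxXW).toEquiv,
          Subgroup.card_map_of_injective (MulAut.conj _).injective, hcX', hfW])
      obtain ⟨k, hk⟩ := MulAction.exists_smul_eq W S2 S1
      have hkx : (k : ↥(Cen z)) * x ∈ N' := by
        show ((k : ↥(Cen z)) : G) * x ∈ N
        have hle : X.map (MulAut.conj (((k : ↥(Cen z)) : G) * x)).toMonoidHom ≤ X := by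
          rintro _ ⟨y, hy, rfl⟩
          have hmem : (⟨x * ⟨y, hX hy⟩ * x⁻¹, hxXW ⟨⟨y, hX hy⟩, hy, rfl⟩⟩ : W) ∈ (S2 : Subgroup W) :=
            ⟨⟨y, hX hy⟩, hy, rfl⟩
          have : k * ⟨x * ⟨y, hX hy⟩ * x⁻¹, hxXW ⟨⟨y, hX hy⟩, hy, rfl⟩⟩ * k⁻¹ ∈ (S1 : Subgroup W) := by
            rw [← hk]
            exact ⟨_, hmem, rfl⟩
          have h2 : ((k : ↥(Cen z)) : G) * ((x : G) * y * (x : G)⁻¹) * ((k : ↥(Cen z)) : G)⁻¹ ∈ X :=
            this
          show ((k : ↥(Cen z)) : G) * x * y * (((k : ↥(Cen z)) : G) * x)⁻¹ ∈ X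
          convert h2 using 1
          group
        have heq := Subgroup.eq_of_le_of_card_ge hle
          (Subgroup.card_map_of_injective (MulAut.conj _).injective).ge
        rw [mem_normalizer_iff]
        intro y
        conv_rhs => rw [← heq, mem_conj_map]
        rw [show (((k : ↥(Cen z)) : G) * x)⁻¹ * (((k : ↥(Cen z)) : G) * x * y *
          (((k : ↥(Cen z)) : G) * x)⁻¹) * (((k : ↥(Cen z)) : G) * x) = y by group]
      obtain ⟨y, hy, hyk⟩ := (k.2 : B.proj (k : ↥(Cen z)) ∈ X'.map B.proj)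
      have hyN : y ∈ N' := le_normalizer (H := X) (show (y : G) ∈ X from hy)
      refine ⟨⟨y, hyN⟩⁻¹ * ⟨(k : ↥(Cen z)) * x, hkx⟩, ?_⟩
      show B.proj (y⁻¹ * ((k : ↥(Cen z)) * x)) = B.proj x
      rw [map_mul, map_mul, map_inv, hyk, inv_mul_cancel_left]
  rw [← Nat.card_congr (Subgroup.subgroupOfEquivOfLe hNH).toEquiv,
    Subgroup.card_eq_card_quotient_mul_card_subgroup φ.ker,
    Nat.card_congr (QuotientGroup.quotientKerEquivRange φ).toEquiv, hrange,
    card_normalizer_three T, hkcard]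

include B F in
/-- The noncentral elements of order three of a subgroup of order twenty-seven are conjugate. -/
theorem noncentral_conj {X : Subgroup G} (hX : X ≤ Cen z) (hc : Nat.card X = 27) {x y : G}
    (hx : x ∈ X) (hy : y ∈ X) (hx1 : B.proj ⟨x, hX hx⟩ ≠ 1) (hy1 : B.proj ⟨y, hX hy⟩ ≠ 1) :
    IsConj x y := by
  have : Fact (Nat.Prime 3) := ⟨Nat.prime_three⟩
  obtain ⟨h3, -, h, hh, hcent, hker⟩ := struct27 B F hX hc
  have ho : ∀ w, ∀ hw : w ∈ X, B.proj ⟨w, hX hw⟩ ≠ 1 → orderOf (B.proj ⟨w, hX hw⟩) = 3 :=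
    fun w hw h1 => orderOf_eq_prime (by
      rw [← map_pow, show (⟨w, hX hw⟩ : ↥(Cen z)) ^ 3 = 1 from Subtype.ext (h3 w hw), map_one]) h1
  obtain ⟨φ, -, hφ⟩ := inn_conj_three (ho x hx hx1) (ho y hy hy1)
  obtain ⟨c, rfl⟩ := B.surj φ
  set T := (zpowers (B.proj ⟨y, hX hy⟩)).comap B.proj with hT
  have hx'T : c * ⟨x, hX hx⟩ * c⁻¹ ∈ T := by
    show B.proj (c * ⟨x, hX hx⟩ * c⁻¹) ∈ zpowers (B.proj ⟨y, hX hy⟩)
    rw [map_mul, map_mul, map_inv, hφ]; exact mem_zpowers _
  have hTc : Nat.card T = 3 * (3 * 2 ^ 13) := by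
    have h1 := Subgroup.card_eq_card_quotient_mul_card_subgroup (B.proj.comp T.subtype).ker
    rw [Nat.card_congr (QuotientGroup.quotientKerEquivRange _).toEquiv, MonoidHom.range_comp,
      Subgroup.range_subtype, Subgroup.map_comap_eq_self_of_surjective B.surj, Nat.card_zpowers,
      ho y hy hy1, show (B.proj.comp T.subtype).ker = B.proj.ker.subgroupOf T from
        (MonoidHom.comap_ker B.proj T.subtype).symm,
      Nat.card_congr (Subgroup.subgroupOfEquivOfLe (Subgroup.ker_le_comap B.proj _)).toEquiv,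
      ker_card B] at h1
    exact h1
  set Y := X.subgroupOf (Cen z) ⊓ T with hY
  have hyY : (⟨y, hX hy⟩ : ↥(Cen z)) ∈ Y := ⟨hy, mem_zpowers _⟩
  obtain ⟨p0, hp0, hPp⟩ := B.exists_gen
  have hp0P : p0 ∈ P := hPp ▸ mem_zpowers p0
  have hP'X : P.map (MulAut.conj h).toMonoidHom ≤ X := hcent ▸ inf_le_left
  have hYc : Nat.card Y = 9 := by
    have h1 : Nat.card Y ∣ 27 := by
      rw [← hc, ← Nat.card_congr (Subgroup.subgroupOfEquivOfLe hX).toEquiv]
      exact Subgroup.card_dvd_of_le inf_le_left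
    have h2 : Nat.card Y ∣ 3 * (3 * 2 ^ 13) := hTc ▸ Subgroup.card_dvd_of_le inf_le_right
    have h9 : Nat.card Y ∣ 9 := by
      have := Nat.dvd_gcd h1 h2; norm_num at this; exact this
    set P'' := (P.map (MulAut.conj h).toMonoidHom).subgroupOf (Cen z) with hP''
    have hP''Y : P'' ≤ Y := fun w hw => ⟨hP'X hw, by
      show B.proj w ∈ zpowers (B.proj ⟨y, hX hy⟩)
      rw [show B.proj w = 1 from proj_conjP B hh hw w.2]; exact one_mem _⟩
    have hP''c : Nat.card P'' = 3 := by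
      rw [hP'', Nat.card_congr (Subgroup.subgroupOfEquivOfLe (hP'X.trans hX)).toEquiv,
        Subgroup.card_map_of_injective (MulAut.conj _).injective, B.card_p]
    have h3' : 3 < Nat.card Y := by
      rw [← hP''c]
      refine lt_of_le_of_ne (Subgroup.card_le_of_le hP''Y) fun e => hy1 ?_
      have := (Subgroup.eq_of_le_of_card_ge hP''Y e.ge).ge hyY
      exact proj_conjP B hh this (hX hy)
    have : ∀ m ∈ Nat.divisors 9, 3 < m → m = 9 := by decide +kernel
    exact this _ (Nat.mem_divisors.2 ⟨h9, by norm_num⟩) h3'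
  have hfT : (Nat.card T).factorization 3 = 2 := by
    rw [hTc, show 3 * (3 * 2 ^ 13) = 3 ^ 2 * 2 ^ 13 by norm_num,
      Nat.factorization_mul (by norm_num) (by norm_num), Nat.Prime.factorization_pow Nat.prime_three,
      Finsupp.add_apply, Finsupp.single_eq_same, Nat.factorization_eq_zero_of_not_dvd (by norm_num)]
  let SY : Sylow 3 T := Sylow.ofCard (Y.subgroupOf T) (by
    rw [Nat.card_congr (Subgroup.subgroupOfEquivOfLe inf_le_right).toEquiv, hYc, hfT]; norm_num)
  set x' : T := ⟨c * ⟨x, hX hx⟩ * c⁻¹, hx'T⟩ with hx'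
  have hx'p : IsPGroup 3 (zpowers x') := by
    refine IsPGroup.of_card (n := 1) ?_
    rw [Nat.card_zpowers, pow_one]
    refine orderOf_eq_prime (Subtype.ext ?_) fun e => ?_
    · show (c * ⟨x, hX hx⟩ * c⁻¹) ^ 3 = 1
      rw [conj_pow, show (⟨x, hX hx⟩ : ↥(Cen z)) ^ 3 = 1 from Subtype.ext (h3 x hx), mul_one,
        mul_inv_cancel]
    · refine hy1 ?_
      have := congrArg (fun w : T => B.proj (w : ↥(Cen z))) e
      simp only [hx', OneMemClass.coe_one, map_one, map_mul, map_inv, hφ] at this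
      exact this
  obtain ⟨S, hS⟩ := hx'p.exists_le_sylow
  obtain ⟨k, hk⟩ := MulAction.exists_smul_eq T S SY
  have hmem : k * x' * k⁻¹ ∈ (SY : Subgroup T) := by
    rw [← hk]
    exact ⟨x', hS (mem_zpowers x'), rfl⟩
  set w : G := (((k : ↥(Cen z)) * c : ↥(Cen z)) : G) with hw
  have hwX : w * x * w⁻¹ ∈ X := by
    have h1 : (((k * x' * k⁻¹ : T) : ↥(Cen z)) : G) ∈ X := hmem.1
    convert h1 using 1
    simp only [hw, hx', Subgroup.coe_mul, Subgroup.coe_inv]
    group
  have hwproj : B.proj ⟨w * x * w⁻¹, hX hwX⟩ = B.proj ⟨y, hX hy⟩ := by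
    rw [show (⟨w * x * w⁻¹, hX hwX⟩ : ↥(Cen z)) =
      (k : ↥(Cen z)) * (c * ⟨x, hX hx⟩ * c⁻¹) * (k : ↥(Cen z))⁻¹ from Subtype.ext (by
        simp only [hw, Subgroup.coe_mul, Subgroup.coe_inv]; group), map_mul, map_mul, map_inv,
      map_mul, map_mul, map_inv, hφ]
    obtain ⟨i, hi⟩ := (k.2 : B.proj (k : ↥(Cen z)) ∈ zpowers (B.proj ⟨y, hX hy⟩))
    simp only at hi
    rw [← hi, ← zpow_add_one, ← zpow_neg, ← zpow_add]
    simp
  refine IsConj.trans (isConj_iff.2 ⟨w, rfl⟩) ?_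
  set x2 := w * x * w⁻¹ with hx2
  have hd : x2 * y⁻¹ ∈ P.map (MulAut.conj h).toMonoidHom := by
    refine hker _ (mul_mem hwX (inv_mem hy)) ?_
    rw [show (⟨x2 * y⁻¹, _⟩ : ↥(Cen z)) = ⟨x2, hX hwX⟩ * (⟨y, hX hy⟩ : ↥(Cen z))⁻¹ from rfl,
      map_mul, map_inv, hwproj, mul_inv_cancel]
  obtain ⟨r, hr, hry⟩ : ∃ r ∈ X, r * y ≠ y * r := by
    by_contra H
    push Not at H
    have : y ∈ X ⊓ centralizer (X : Set G) := ⟨hy, mem_centralizer_iff.2 H⟩
    rw [hcent] at this
    exact hy1 (proj_conjP B hh this (hX hy))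
  set d := r * y * r⁻¹ * y⁻¹ with hd'
  have hdP : d ∈ P.map (MulAut.conj h).toMonoidHom := by
    refine hker _ (mul_mem (mul_mem (mul_mem hr hy) (inv_mem hr)) (inv_mem hy)) ?_
    have hcomm : B.proj ⟨r, hX hr⟩ * B.proj ⟨y, hX hy⟩ = B.proj ⟨y, hX hy⟩ * B.proj ⟨r, hX hr⟩ := by
      set I := (X.subgroupOf (Cen z)).map B.proj with hI
      have hd9 : Nat.card I ∣ 9 := by
        have h1 : Nat.card I ∣ 27 := by
          rw [← hc, ← Nat.card_congr (Subgroup.subgroupOfEquivOfLe hX).toEquiv]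
          exact Subgroup.card_map_dvd _ _
        have h2 : Nat.card I ∣ 887040 := card_aut ▸ Subgroup.card_subgroup_dvd_card _
        have := Nat.dvd_gcd h1 h2
        norm_num at this; exact this
      have hr' : B.proj ⟨r, hX hr⟩ ∈ I := ⟨_, hr, rfl⟩
      have hy' : B.proj ⟨y, hX hy⟩ ∈ I := ⟨_, hy, rfl⟩
      obtain ⟨j, hj, hj'⟩ := (Nat.dvd_prime_pow Nat.prime_three).1 (show Nat.card I ∣ 3 ^ 2 from hd9)
      interval_cases j
      · rw [pow_zero, Subgroup.card_eq_one] at hj'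
        rw [hj', mem_bot] at hy'
        exact absurd hy' hy1
      · have := isCyclic_of_prime_card (hj'.trans (pow_one 3))
        exact congrArg Subtype.val ((IsCyclic.commutative (α := I)).1.comm ⟨_, hr'⟩ ⟨_, hy'⟩)
      · exact congrArg Subtype.val (IsPGroup.commutative_of_card_eq_prime_sq hj' ⟨_, hr'⟩ ⟨_, hy'⟩)
    rw [show (⟨r * y * r⁻¹ * y⁻¹, _⟩ : ↥(Cen z)) = (⟨r, hX hr⟩ : ↥(Cen z)) * ⟨y, hX hy⟩ *
      (⟨r, hX hr⟩ : ↥(Cen z))⁻¹ * (⟨y, hX hy⟩ : ↥(Cen z))⁻¹ from rfl, map_mul, map_mul, map_mul,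
      map_inv, map_inv, hcomm, mul_inv_cancel_right, mul_inv_cancel]
  have hd1 : d ≠ 1 := fun e => hry (by
    rw [hd', mul_inv_eq_one, mul_inv_eq_iff_eq_mul] at e; exact e)
  have hrd : r * d = d * r := by
    have : d ∈ X ⊓ centralizer (X : Set G) := hcent ▸ hdP
    exact mem_centralizer_iff.1 this.2 r hr
  have hdz : P.map (MulAut.conj h).toMonoidHom = zpowers d := by
    refine (Subgroup.eq_of_le_of_card_ge (zpowers_le.2 hdP) ?_).symm
    rw [Subgroup.card_map_of_injective (MulAut.conj _).injective, B.card_p, Nat.card_zpowers,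
      orderOf_eq_prime (h3 d (hP'X hdP)) hd1]
  obtain ⟨i, hi⟩ := (IsOfFinOrder.mem_powers_iff_mem_zpowers (isOfFinOrder_of_finite d)).2
    (hdz ▸ hd : x2 * y⁻¹ ∈ zpowers d)
  simp only at hi
  have hpow : ∀ n : ℕ, r ^ n * y * (r ^ n)⁻¹ = d ^ n * y := by
    intro n
    induction n with
    | zero => simp
    | succ n ih =>
      calc r ^ (n + 1) * y * (r ^ (n + 1))⁻¹ = r * (r ^ n * y * (r ^ n)⁻¹) * r⁻¹ := by
            rw [pow_succ']; group
        _ = (r * d ^ n) * (r⁻¹ * d) * y := by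
            rw [ih, hd']; group
        _ = d ^ n * d * y := by
            rw [((show Commute r d from hrd).pow_right n).eq]; group
        _ = d ^ (n + 1) * y := by rw [pow_succ]
  refine (isConj_iff.2 ⟨r ^ i, ?_⟩).symm
  rw [hpow, hi, inv_mul_cancel_right]

include B F L in
/-- One class of elements of order three. -/
theorem one_class {x y : G} (hx : orderOf x = 3) (hy : orderOf y = 3) : IsConj x y := by
  have : Fact (Nat.Prime 3) := ⟨Nat.prime_three⟩
  have hN := B.normalizer_le_cen F L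
  obtain ⟨R, hR, hRc⟩ := exists_sylow_le B F hN
  obtain ⟨h3, -, h, hh, hcent, hker⟩ := struct27 B F hR hRc
  have hP'R : P.map (MulAut.conj h).toMonoidHom ≤ (R : Subgroup G) := hcent ▸ inf_le_left
  obtain ⟨p0, hp0, hPp⟩ := B.exists_gen
  have hp0P : p0 ∈ P := hPp ▸ mem_zpowers p0
  have hp01 : p0 ≠ 1 := fun e => by rw [e, orderOf_one] at hp0; omega
  -- move into the Sylow subgroup
  have hinto : ∀ w : G, orderOf w = 3 → ∃ w' ∈ (R : Subgroup G), orderOf w' = 3 ∧ IsConj w w' := by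
    intro w hw
    obtain ⟨S, hS⟩ := (IsPGroup.of_card (n := 1) (by rw [Nat.card_zpowers, hw, pow_one]) :
      IsPGroup 3 (zpowers w)).exists_le_sylow
    obtain ⟨g, hg⟩ := MulAction.exists_smul_eq G S R
    refine ⟨g * w * g⁻¹, ?_, ?_, isConj_iff.2 ⟨g, rfl⟩⟩
    · rw [← hg]; exact ⟨w, hS (mem_zpowers w), rfl⟩
    · rw [show g * w * g⁻¹ = MulAut.conj g w from rfl, MulEquiv.orderOf_eq, hw]
  -- a noncentral conjugate of the generator
  obtain ⟨a, -, ⟨haV, haP⟩, -, haz, -, -, -, -, -, hza, -, -⟩ := L.klein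
  obtain ⟨g, hg⟩ := isConj_iff.1 hza
  have hqH : g⁻¹ * p0 * g ∈ Cen z := by
    refine B.mem_cen.2 ?_
    have h1 := mem_centralizer_iff.1 haP p0 hp0P
    calc g⁻¹ * p0 * g * z = g⁻¹ * (p0 * (g * z * g⁻¹)) * g := by group
      _ = g⁻¹ * (g * z * g⁻¹ * p0) * g := by rw [hg, h1]
      _ = z * (g⁻¹ * p0 * g) := by group
  have hqne : B.proj ⟨g⁻¹ * p0 * g, hqH⟩ ≠ 1 :=
    B.noncentral F D (by rw [hg]; exact haV) (by rw [hg]; exact haP) (by rw [hg]; exact haz) hp0P
      hp01 hqH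
  have hqo : orderOf (⟨g⁻¹ * p0 * g, hqH⟩ : ↥(Cen z)) = 3 := by
    rw [← Subgroup.orderOf_coe]
    show orderOf (g⁻¹ * p0 * g) = 3
    rw [show g⁻¹ * p0 * g = MulAut.conj g⁻¹ p0 by simp, MulEquiv.orderOf_eq, hp0]
  obtain ⟨S, hS⟩ := (IsPGroup.of_card (n := 1) (by rw [Nat.card_zpowers, hqo, pow_one]) :
    IsPGroup 3 (zpowers (⟨g⁻¹ * p0 * g, hqH⟩ : ↥(Cen z)))).exists_le_sylow
  obtain ⟨k, hk⟩ := MulAction.exists_smul_eq ↥(Cen z) S (R.subtype hR)
  set q' := k * ⟨g⁻¹ * p0 * g, hqH⟩ * k⁻¹ with hq'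
  have hq'R : (q' : G) ∈ (R : Subgroup G) := by
    have : q' ∈ (R.subtype hR : Subgroup ↥(Cen z)) := by
      rw [← hk]; exact ⟨_, hS (mem_zpowers _), rfl⟩
    exact this
  have hq'ne : B.proj q' ≠ 1 := fun e => hqne (by
    rw [hq', map_mul, map_mul, map_inv, conj_eq_one_iff] at e; exact e)
  have hp0q : IsConj p0 (q' : G) :=
    isConj_iff.2 ⟨(k : G) * g⁻¹, by simp [hq', mul_assoc]⟩
  -- the generator and its inverse
  obtain ⟨m, ⟨hmH, hmN⟩, hmC⟩ := B.moving
  have hsq : IsConj p0 (p0 ^ 2) := by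
    refine isConj_iff.2 ⟨m, ?_⟩
    have hmem : m * p0 * m⁻¹ ∈ zpowers p0 := hPp ▸ (mem_normalizer_iff.1 hmN p0).1 hp0P
    obtain ⟨i, hi⟩ := (IsOfFinOrder.mem_powers_iff_mem_zpowers (isOfFinOrder_of_finite p0)).2 hmem
    simp only at hi
    rw [← pow_mod_orderOf, hp0] at hi
    rcases (show i % 3 = 0 ∨ i % 3 = 1 ∨ i % 3 = 2 by omega) with e | e | e <;> rw [e] at hi
    · rw [pow_zero] at hi
      exact absurd (conj_eq_one_iff.1 hi.symm) hp01
    · rw [pow_one] at hi
      refine absurd ⟨hmH, mem_centralizer_iff.2 fun w hw => ?_⟩ hmC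
      rw [hPp] at hw
      obtain ⟨j, rfl⟩ := hw
      exact ((show Commute m p0 from mul_inv_eq_iff_eq_mul.1 hi.symm).zpow_right j).eq.symm
    · exact hi.symm
  -- all elements of the Sylow subgroup
  have hall : ∀ w, w ∈ (R : Subgroup G) → orderOf w = 3 → IsConj w (q' : G) := by
    intro w hw hwo
    by_cases h1 : B.proj ⟨w, hR hw⟩ = 1
    · obtain ⟨p, hp, rfl⟩ := hker w hw h1
      refine IsConj.trans (IsConj.symm (isConj_iff.2 ⟨h, rfl⟩)) ?_
      obtain ⟨i, hi⟩ := (IsOfFinOrder.mem_powers_iff_mem_zpowers (isOfFinOrder_of_finite p0)).2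
        (hPp ▸ hp : p ∈ zpowers p0)
      simp only at hi
      rw [← pow_mod_orderOf, hp0] at hi
      rcases (show i % 3 = 0 ∨ i % 3 = 1 ∨ i % 3 = 2 by omega) with e | e | e <;> rw [e] at hi
      · rw [pow_zero] at hi
        rw [← hi] at hwo
        simp at hwo
      · rw [pow_one] at hi
        exact hi ▸ hp0q
      · exact hi ▸ hsq.symm.trans hp0q
    · exact noncentral_conj B F hR hRc hw hq'R h1 hq'ne
  obtain ⟨x', hx', hxo, hxx⟩ := hinto x hx
  obtain ⟨y', hy', hyo, hyy⟩ := hinto y hy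
  exact hxx.trans ((hall x' hx' hxo).trans ((hall y' hy' hyo).symm.trans hyy.symm))

end CfsgLib.J4Type.Three
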