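import Cfsg.Agent.Lib.J4Type.Model

/-!
A subgroup of order twenty-seven and exponent three in the Levi part, and the checks on the
coordinates used for the centraliser of `P`.
-/

set_option autoImplicit false
set_option maxRecDepth 100000

namespace CfsgLib.J4Type.Three

/-- The word in the generators given by its indices. -/
def wordM : List ℕ → List ℕ
  | [] => idM
  | i :: l => mm (gensL.getD i idM) (wordM l)

theorem inL_wordM : ∀ (l : List ℕ), l.all (fun i => Nat.ble (i + 1) 6) = true → InL (wordM l)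
  | [], _ => InL.one
  | i :: l, h => by
    simp only [List.all_cons, Bool.and_eq_true, Nat.ble_eq] at h
    refine InL.mul _ ?_ (inL_wordM l h.2)
    rw [List.getD_eq_getElem _ _ (by show i < 6; omega)]
    exact List.getElem_mem _

/-- The twenty-seven words. -/
def words27 : List (List ℕ) :=
  [[], [0], [0, 0], [1, 0, 2, 1], [1, 1, 2, 1], [0, 1, 1, 2, 1], [1, 0, 2, 1, 0], [1, 0, 2, 2, 1], [1, 1, 2, 1, 0], [1, 1, 2, 2, 1], [2, 1, 2, 0, 2], [0, 1, 1, 2, 1, 0], [1, 0, 2, 1, 0, 0], [1, 0, 2, 2, 1, 0], [1, 1, 2, 1, 0, 0], [1, 1, 2, 2, 1, 0], [2, 1, 2, 0, 2, 0], [0, 1, 1, 2, 1, 0, 0], [1, 0, 2, 2, 1, 0, 0], [1, 1, 2, 2, 1, 0, 0], [1, 2, 1, 1, 0, 2, 2], [1, 2, 2, 1, 1, 0, 2], [2, 1, 2, 0, 2, 0, 0], [1, 2, 1, 1, 0, 2, 2, 0], [1, 2, 2, 1, 1, 0, 2, 0], [1, 2, 1, 1, 0, 2, 2, 0, 0], [1, 2, 2, 1, 1, 0, 2, 0, 0]]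

/-- The twenty-seven matrices. -/
def mats27 : List (List ℕ) := words27.map wordM

/-- Boolean equality of matrices. -/
def eqM : List ℕ → List ℕ → Bool
  | [], [] => true
  | a :: l, b :: m => Nat.beq a b && eqM l m
  | _, _ => false

theorem eqM_sound : ∀ {a b : List ℕ}, eqM a b = true → a = b
  | [], [], _ => rfl
  | a :: l, b :: m, h => by
    simp only [eqM, Bool.and_eq_true, Nat.beq_eq] at h
    rw [h.1, eqM_sound h.2]
  | [], _ :: _, h => by simp [eqM] at h
  | _ :: _, [], h => by simp [eqM] at h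

theorem eqM_refl : ∀ a : List ℕ, eqM a a = true
  | [] => rfl
  | a :: l => by simp [eqM, eqM_refl l]

theorem mats27_closed : mats27.all (fun a => mats27.all fun b => mats27.any (eqM (mm a b))) = true := by
  decide +kernel

theorem mats27_one : mats27.any (eqM idM) = true := by decide +kernel

theorem mats27_cube : mats27.all (fun a => eqM (mm a (mm a a)) idM && eqM (mm idM a) a) = true := by
  decide +kernel

theorem mats27_nodup : mats27.Nodup ∧ mats27.length = 27 := by decide +kernel

theorem mats27_nonabelian : mats27.any (fun a => mats27.any fun b => !eqM (mm a b) (mm b a)) = true := by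
  decide +kernel

theorem mem_mats27_inL {m : List ℕ} (h : m ∈ mats27) : InL m := by
  obtain ⟨l, hl, rfl⟩ := List.mem_map.1 h
  refine inL_wordM l ?_
  have : words27.all (fun l => l.all fun i => Nat.ble (i + 1) 6) = true := by decide +kernel
  exact List.all_eq_true.1 this l hl

theorem omega_solve : (List.range 4096).all (fun v =>
    Nat.beq (mv pOm (mv pOm v) ^^^ mv pOm v) v) = true := by decide +kernel

theorem perp_upper : (List.range 4096).all (fun v =>
    Nat.ble (v + 1) 64 || (List.range 6).any fun i => bF v (Nat.shiftLeft 1 i)) = true := by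
  decide +kernel

theorem fixed_upper : 64 < ((List.range 4096).filter fun v => Nat.beq (mv qU v) v).length := by
  decide +kernel

end CfsgLib.J4Type.Three
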